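import Cfsg.Agent.H60.AltCoverAnti
import Cfsg.Prelude.Def_SporadicB

/-!
An involution centralizer which is a non-split double cover of an alternating group gives the data of
`H60.AltCover`.
-/

set_option autoImplicit false

namespace H37.AltDeg

open scoped commutatorElement

/-- The data of a perfect double cover attached to a non-split double cover `C(z)` of `A_n`. -/
theorem exists_data {G : Type*} [Group G] [Finite G] (n : ℕ) (hn : 5 ≤ n) (z : G) (hz : orderOf z = 2)
    (hcov : Cfsg.IsNonsplitDoubleCover (Subgroup.centralizer ({z} : Set G)) (alternatingGroup (Fin n))) :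
    ∃ φ : ↥(Subgroup.centralizer ({z} : Set G)) →* Equiv.Perm (Fin n),
      H60.AltCover.Data φ ⟨z, Subgroup.mem_centralizer_singleton_iff.2 rfl⟩ := by
  classical
  obtain ⟨hZ, ⟨e⟩, hns⟩ := hcov
  set C := Subgroup.centralizer ({z} : Set G)
  set zc : C := ⟨z, Subgroup.mem_centralizer_singleton_iff.2 rfl⟩ with hzc
  have hzmem : zc ∈ Subgroup.center C := Subgroup.mem_center_iff.2 fun c =>
    Subtype.ext (Subgroup.mem_centralizer_singleton_iff.1 c.2)
  have hz1 : zc ≠ 1 := fun h => by
    have h' : z = 1 := congrArg Subtype.val h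
    rw [h', orderOf_one] at hz
    exact absurd hz (by norm_num)
  have hzu : ∀ x : C, x ∈ Subgroup.center C → x ≠ 1 → x = zc := by
    obtain ⟨w, -, hw⟩ := (Nat.card_eq_two_iff' (1 : Subgroup.center C)).mp hZ
    intro x hx hx1
    have h1 := hw ⟨x, hx⟩ fun h => hx1 (congrArg Subtype.val h)
    have h2 := hw ⟨zc, hzmem⟩ fun h => hz1 (congrArg Subtype.val h)
    exact congrArg Subtype.val (h1.trans h2.symm)
  let φ : C →* Equiv.Perm (Fin n) :=
    (alternatingGroup (Fin n)).subtype.comp (e.toMonoidHom.comp (QuotientGroup.mk' (Subgroup.center C)))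
  have hker : ∀ x, φ x = 1 ↔ x ∈ Subgroup.center C := fun x => by
    rw [← QuotientGroup.eq_one_iff]
    exact ⟨fun h => e.injective ((Subtype.ext h).trans (map_one e).symm), fun h => by
      show ((e (x : C ⧸ Subgroup.center C)) : Equiv.Perm (Fin n)) = 1
      rw [h, map_one]; rfl⟩
  have hrange : φ.range = alternatingGroup (Fin n) := by
    refine le_antisymm (fun σ ⟨x, hx⟩ => hx ▸ (e (x : C ⧸ Subgroup.center C)).2) fun σ hσ => ?_
    obtain ⟨x, hx⟩ := QuotientGroup.mk'_surjective (Subgroup.center C) (e.symm ⟨σ, hσ⟩)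
    exact ⟨x, by simp only [φ, MonoidHom.comp_apply, hx]; simp⟩
  have hsq : zc * zc = 1 := Subtype.ext (by
    show z * z = 1
    rw [← pow_two, ← hz, pow_orderOf_eq_one])
  refine ⟨φ,
    { perfect := ?_
      range_eq := hrange
      central := fun g => Subgroup.mem_center_iff.1 hzmem g
      ne_one := hz1
      sq := hsq
      ker := fun g hg => (em (g = 1)).imp_right fun h => hzu g ((hker g).1 hg) h
      zmem := (hker _).2 hzmem
      deg := hn }⟩
  have hsup : commutator C ⊔ Subgroup.center C = ⊤ := by
    refine eq_top_iff.2 fun c _ => ?_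
    have hmap : (commutator C).map φ = alternatingGroup (Fin n) := by
      rw [map_commutator_eq, hrange, ← Subgroup.map_subtype_commutator,
        commutator_alternatingGroup_eq_top (by simpa using hn), ← MonoidHom.range_eq_map, Subgroup.range_subtype]
    obtain ⟨d, hd, hdc⟩ : φ c ∈ (commutator C).map φ := by rw [hmap, ← hrange]; exact ⟨c, rfl⟩
    have : d⁻¹ * c ∈ Subgroup.center C := (hker _).1 (by rw [map_mul, map_inv, hdc, inv_mul_cancel])
    simpa using Subgroup.mul_mem_sup hd this
  by_cases hzD : zc ∈ commutator C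
  · rw [← hsup, left_eq_sup]
    intro x hx
    by_cases h1 : x = 1
    · rw [h1]; exact one_mem _
    · rw [hzu x hx h1]; exact hzD
  · refine absurd ?_ (hns (commutator C))
    rw [Subgroup.isComplement'_comm]
    refine Subgroup.isComplement'_of_disjoint_and_mul_eq_univ ?_ ?_
    · rw [disjoint_iff, eq_bot_iff]
      rintro x ⟨hxD, hxZ⟩
      by_contra h1
      exact hzD (hzu x hxZ h1 ▸ hxD)
    · rw [← Subgroup.normal_mul, hsup, Subgroup.coe_top]

end H37.AltDeg
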