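import Mathlib

/-! A property distinguishing an ordered pair of commuting involutions. -/

set_option autoImplicit false

namespace H37.AltDeg

open scoped commutatorElement

variable {G : Type*} [Group G]

/-- The commutators of `a` with its conjugates by elements of order three commuting with `e, e1`. -/
def Clause (e e1 a : G) : Prop :=
  ∀ x, Commute x e → Commute x e1 → x ^ 3 = 1 →
    ⁅a, x * a * x⁻¹⁆ = 1 ∨ ⁅a, x * a * x⁻¹⁆ = e ∨ ⁅a, x * a * x⁻¹⁆ = e1 ∨ ⁅a, x * a * x⁻¹⁆ = e * e1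

/-- The distinguishing property. -/
def Dist (e e1 : G) : Prop :=
  (∃ a x, Commute a e ∧ Commute a e1 ∧ Commute x e ∧ Commute x e1 ∧ a * a = e ∧ x ^ 5 = 1 ∧
      Clause e e1 a ∧ ¬ Commute x a) ∨
    ∃ a x c c', Commute a e ∧ Commute a e1 ∧ Commute x e ∧ Commute x e1 ∧ Commute c e ∧ Commute c e1 ∧
      Commute c' e ∧ Commute c' e1 ∧ x ^ 3 = 1 ∧ ⁅a, x * a * x⁻¹⁆ = e ∧ c * c = e1 ∧ c' * c' = e * e1 ∧
      Clause e e1 c ∧ Clause e e1 c' ∧ Commute x c ∧ Commute x c'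

theorem Clause.map {H : Type*} [Group H] (f : G ≃* H) {e e1 a : G} (h : Clause e e1 a) :
    Clause (f e) (f e1) (f a) := by
  intro x h1 h2 h3
  obtain ⟨x, rfl⟩ := f.surjective x
  have hx := h x (by simpa using h1.map f.symm) (by simpa using h2.map f.symm)
    (f.injective (by rw [map_pow, map_one]; exact h3))
  have he : ⁅f a, f x * f a * (f x)⁻¹⁆ = f ⁅a, x * a * x⁻¹⁆ := by
    rw [map_commutatorElement, map_mul, map_mul, map_inv]
  rw [he]
  exact hx.imp (fun e => by rw [e, map_one])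
    (Or.imp (fun e => by rw [e]) (Or.imp (fun e => by rw [e]) fun e => by rw [e, map_mul]))

theorem Dist.map {H : Type*} [Group H] (f : G ≃* H) {e e1 : G} (h : Dist e e1) : Dist (f e) (f e1) := by
  rcases h with ⟨a, x, h1, h2, h3, h4, h5, h6, h7, h8⟩ |
    ⟨a, x, c, c', h1, h2, h3, h4, h5, h6, h7, h8, h9, h10, h11, h12, h13, h14, h15, h16⟩
  · exact Or.inl ⟨f a, f x, h1.map f, h2.map f, h3.map f, h4.map f, by rw [← map_mul, h5],
      by rw [← map_pow, h6, map_one], h7.map f, fun e => h8 (by simpa using e.map f.symm)⟩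
  · refine Or.inr ⟨f a, f x, f c, f c', h1.map f, h2.map f, h3.map f, h4.map f, h5.map f, h6.map f, h7.map f,
      h8.map f, by rw [← map_pow, h9, map_one], ?_, by rw [← map_mul, h11], by rw [← map_mul, h12, map_mul],
      h13.map f, h14.map f, h15.map f, h16.map f⟩
    rw [← map_inv, ← map_mul, ← map_mul, ← map_commutatorElement, h10]

variable {S : Subgroup G} {e e1 : S}

theorem clause_coe (hS : ∀ x : G, Commute x (e : G) → Commute x (e1 : G) → x ∈ S) {a : S} :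
    Clause (e : G) (e1 : G) (a : G) ↔ Clause e e1 a := by
  have hc : ∀ a b : S, Commute (a : G) (b : G) ↔ Commute a b := fun a b =>
    ⟨fun h => Subtype.ext h.eq, fun h => congrArg Subtype.val h.eq⟩
  constructor
  · intro h x h1 h2 h3
    have hx := h x ((hc _ _).2 h1) ((hc _ _).2 h2) (congrArg Subtype.val h3)
    exact hx.imp (fun e => Subtype.ext e) (Or.imp (fun e => Subtype.ext e)
      (Or.imp (fun e => Subtype.ext e) fun e => Subtype.ext e))
  · intro h x h1 h2 h3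
    have hx := h ⟨x, hS x h1 h2⟩ ((hc _ _).1 h1) ((hc _ _).1 h2) (Subtype.ext h3)
    exact hx.imp (fun e => congrArg Subtype.val e) (Or.imp (fun e => congrArg Subtype.val e)
      (Or.imp (fun e => congrArg Subtype.val e) fun e => congrArg Subtype.val e))

theorem dist_coe (hS : ∀ x : G, Commute x (e : G) → Commute x (e1 : G) → x ∈ S) :
    Dist (e : G) (e1 : G) ↔ Dist e e1 := by
  have hc : ∀ a b : S, Commute (a : G) (b : G) ↔ Commute a b := fun a b =>
    ⟨fun h => Subtype.ext h.eq, fun h => congrArg Subtype.val h.eq⟩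
  constructor
  · rintro (⟨a, x, h1, h2, h3, h4, h5, h6, h7, h8⟩ |
      ⟨a, x, c, c', h1, h2, h3, h4, h5, h6, h7, h8, h9, h10, h11, h12, h13, h14, h15, h16⟩)
    · exact Or.inl ⟨⟨a, hS a h1 h2⟩, ⟨x, hS x h3 h4⟩, (hc _ _).1 h1, (hc _ _).1 h2, (hc _ _).1 h3,
        (hc _ _).1 h4, Subtype.ext h5, Subtype.ext h6, (clause_coe hS).1 h7, fun e => h8 ((hc _ _).2 e)⟩
    · exact Or.inr ⟨⟨a, hS a h1 h2⟩, ⟨x, hS x h3 h4⟩, ⟨c, hS c h5 h6⟩, ⟨c', hS c' h7 h8⟩, (hc _ _).1 h1,
        (hc _ _).1 h2, (hc _ _).1 h3, (hc _ _).1 h4, (hc _ _).1 h5, (hc _ _).1 h6, (hc _ _).1 h7,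
        (hc _ _).1 h8, Subtype.ext h9, Subtype.ext h10, Subtype.ext h11, Subtype.ext h12,
        (clause_coe hS).1 h13, (clause_coe hS).1 h14, (hc _ _).1 h15, (hc _ _).1 h16⟩
  · rintro (⟨a, x, h1, h2, h3, h4, h5, h6, h7, h8⟩ |
      ⟨a, x, c, c', h1, h2, h3, h4, h5, h6, h7, h8, h9, h10, h11, h12, h13, h14, h15, h16⟩)
    · exact Or.inl ⟨a, x, (hc _ _).2 h1, (hc _ _).2 h2, (hc _ _).2 h3, (hc _ _).2 h4, congrArg Subtype.val h5,
        congrArg Subtype.val h6, (clause_coe hS).2 h7, fun e => h8 ((hc _ _).1 e)⟩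
    · exact Or.inr ⟨a, x, c, c', (hc _ _).2 h1, (hc _ _).2 h2, (hc _ _).2 h3, (hc _ _).2 h4, (hc _ _).2 h5,
        (hc _ _).2 h6, (hc _ _).2 h7, (hc _ _).2 h8, congrArg Subtype.val h9, congrArg Subtype.val h10,
        congrArg Subtype.val h11, congrArg Subtype.val h12, (clause_coe hS).2 h13, (clause_coe hS).2 h14,
        (hc _ _).2 h15, (hc _ _).2 h16⟩

end H37.AltDeg
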