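import Mathlib

/-! Two square roots of the flip of four pairs and the permutations commuting with the flip. -/

set_option autoImplicit false

namespace H37.AltDeg

open Equiv

/-- The flip of four pairs. -/
def flip4 (v : Fin 4 × Bool) : Fin 4 × Bool := (v.1, !v.2)

/-- A square root of the flip pairing `0,1` and `2,3`. -/
def root4 : Perm (Fin 4 × Bool) where
  toFun v := (![1, 0, 3, 2] v.1, if v.1 = 0 ∨ v.1 = 2 then v.2 else !v.2)
  invFun v := (![1, 0, 3, 2] v.1, if v.1 = 0 ∨ v.1 = 2 then !v.2 else v.2)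
  left_inv := by decide
  right_inv := by decide

/-- A square root of the flip pairing `2,1` and `0,3`. -/
def root4' : Perm (Fin 4 × Bool) where
  toFun v := (![3, 2, 1, 0] v.1, if v.1 = 2 ∨ v.1 = 0 then v.2 else !v.2)
  invFun v := (![3, 2, 1, 0] v.1, if v.1 = 2 ∨ v.1 = 0 then !v.2 else v.2)
  left_inv := by decide
  right_inv := by decide

/-- The exchange of the pairs `0` and `2`. -/
def swap02 (v : Fin 4 × Bool) : Fin 4 × Bool := (![2, 1, 0, 3] v.1, v.2)

theorem root4_conj : ∀ v, root4' v = swap02 (root4 (swap02 v)) := by decide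

theorem root4_sq : ∀ v, root4 (root4 v) = flip4 v := by decide

theorem root4_sign : Perm.sign root4 = 1 := by decide +kernel

/-- The conjugate of `T` by the monomial permutation given by `σ` and `δ`. -/
def conj4 (T : Perm (Fin 4 × Bool)) (σ : Perm (Fin 4)) (δ : Fin 4 → Bool) (v : Fin 4 × Bool) : Fin 4 × Bool :=
  let a := T (σ.symm v.1, xor v.2 (δ (σ.symm v.1)))
  (σ a.1, xor a.2 (δ a.1))

theorem root4_conj4 : ∀ (σ : Perm (Fin 4)) (δ : Fin 4 → Bool),
    ((∀ v, root4 (conj4 root4 σ δ v) = conj4 root4 σ δ (root4 v)) ∨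
      ∀ v, root4 (conj4 root4 σ δ v) = flip4 (conj4 root4 σ δ (root4 v))) := by
  decide +kernel

theorem root4'_conj4 : ∀ (σ : Perm (Fin 4)) (δ : Fin 4 → Bool),
    ((∀ v, root4' (conj4 root4' σ δ v) = conj4 root4' σ δ (root4' v)) ∨
      ∀ v, root4' (conj4 root4' σ δ v) = flip4 (conj4 root4' σ δ (root4' v))) := by
  decide +kernel

end H37.AltDeg
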