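import Cfsg.Agent.H60.AltCoverAnti

/-! Lifts in a perfect double cover of an alternating group. -/

set_option autoImplicit false
set_option linter.unusedSectionVars false

namespace H37.AltDeg

open Equiv
open scoped commutatorElement

variable {Γ : Type*} [Group Γ] [Finite Γ] {n : ℕ} {φ : Γ →* Perm (Fin n)} {z : Γ}

theorem pow_odd_z (d : H60.AltCover.Data φ z) {k : ℕ} (hk : Odd k) : z ^ k = z := by
  obtain ⟨m, rfl⟩ := hk
  rw [pow_succ, pow_mul, pow_two, d.sq, one_pow, one_mul]

theorem sign_phi (d : H60.AltCover.Data φ z) (g : Γ) : Perm.sign (φ g) = 1 :=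
  Perm.mem_alternatingGroup.1 (d.range_eq ▸ ⟨g, rfl⟩)

/-- A lift commutes with a lift of odd exponent when their images commute. -/
theorem commute_odd (d : H60.AltCover.Data φ z) {a t : Γ} {k : ℕ} (hk : Odd k) (h : Commute (φ a) (φ t))
    (ht : φ t ^ k = 1) : Commute a t := by
  have hk' : φ (a * t * a⁻¹) = φ t := by rw [map_mul, map_mul, map_inv, h.eq, mul_inv_cancel_right]
  rcases d.eq_or hk' with e | e
  · exact mul_inv_eq_iff_eq_mul.mp e
  · exfalso
    have hct : Commute t z := d.central t
    have e' : (a * t * a⁻¹) ^ k = t ^ k := by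
      rw [conj_pow]
      rcases d.ker (t ^ k) (by rw [map_pow, ht]) with e | e <;> rw [e]
      · rw [mul_one, mul_inv_cancel]
      · rw [d.central a, mul_inv_cancel_right]
    rw [e, hct.mul_pow, pow_odd_z d hk] at e'
    exact d.ne_one (mul_eq_left.mp e')

/-- A permutation of odd exponent has a lift of the same exponent. -/
theorem exists_odd_lift (d : H60.AltCover.Data φ z) {σ : Perm (Fin n)} {k : ℕ} (hk : Odd k) (h : σ ^ k = 1) :
    ∃ x : Γ, φ x = σ ∧ x ^ k = 1 := by
  have hs : Perm.sign σ = 1 := by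
    rcases Int.units_eq_one_or (Perm.sign σ) with e | e
    · exact e
    · have h' := congrArg Perm.sign h
      rw [map_pow, map_one, e, hk.neg_one_pow] at h'
      exact absurd h' (by decide)
  obtain ⟨x, hx⟩ := d.lift hs
  rcases d.ker (x ^ k) (by rw [map_pow, hx, h]) with e | e
  · exact ⟨x, hx, e⟩
  · refine ⟨x * z, by rw [map_mul, hx, d.zmem, mul_one], ?_⟩
    have hct : Commute x z := d.central x
    rw [hct.mul_pow, e, pow_odd_z d hk, d.sq]

/-- A lift of a double transposition commutes with every element whose image fixes the four points. -/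
theorem commute_dt (d : H60.AltCover.Data φ z) {p q r s : Fin n} (hnd : [p, q, r, s].Nodup) {u t : Γ}
    (hu : φ u = swap p q * swap r s) (hp : φ t p = p) (hq : φ t q = q) (hr : φ t r = r) (hs : φ t s = s) :
    Commute t u := by
  simp only [List.nodup_cons, List.mem_cons, List.not_mem_nil, or_false, not_or] at hnd
  obtain ⟨⟨hpq, hpr, hps⟩, ⟨hqr, hqs⟩, hrs, -⟩ := hnd
  have hsw : ∀ {x y : Fin n}, φ t x = x → φ t y = y → Commute (φ t) (swap x y) := fun {x y} hx hy => by
    show φ t * swap x y = swap x y * φ t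
    rw [Equiv.mul_swap_eq_swap_mul, hx, hy]
  obtain ⟨c1, hc1⟩ := d.lift (σ := swap p q * swap q r)
    (by rw [map_mul, Perm.sign_swap hpq, Perm.sign_swap hqr]; decide)
  obtain ⟨c2, hc2⟩ := d.lift (σ := swap q r * swap r s)
    (by rw [map_mul, Perm.sign_swap hqr, Perm.sign_swap hrs]; decide)
  have k1 : Commute t c1 := d.commute_three (by rw [hc1]; exact (hsw hp hq).mul_right (hsw hq hr))
    (by rw [hc1]; exact Cfsg.Agent.S3335.cube_eq hpq hpr hqr)
  have k2 : Commute t c2 := d.commute_three (by rw [hc2]; exact (hsw hq hr).mul_right (hsw hr hs))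
    (by rw [hc2]; exact Cfsg.Agent.S3335.cube_eq hqr hqs hrs)
  have e : φ u = φ (c1 * c2) := by
    rw [map_mul, hc1, hc2, hu, mul_assoc, ← mul_assoc (swap q r), swap_mul_self, one_mul]
  rcases d.eq_or e with k | k <;> rw [k]
  · exact k1.mul_right k2
  · exact (k1.mul_right k2).mul_right (d.central t)

/-- Elements with image an involution other than a double transposition. -/
theorem phi_invol (d : H60.AltCover.Data φ z) {w : Γ} (hw : w * w = 1) (h1 : w ≠ 1) (hz : w ≠ z) :
    φ w * φ w = 1 ∧ φ w ≠ 1 :=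
  ⟨by rw [← map_mul, hw, map_one], fun e => (d.ker w e).elim h1 hz⟩

end H37.AltDeg
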