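import Mathlib

/-! Involutions of a finite symmetric group: pairs and commuting conjugates. -/

set_option autoImplicit false
set_option linter.unusedSectionVars false

namespace H37.AltDeg

open Equiv

variable {α : Type*} [Fintype α] [DecidableEq α] {y : Perm α}

theorem inv_apply_self (hy : y * y = 1) (x : α) : y (y x) = x := congrArg (fun p : Perm α => p x) hy

/-- An even involution moves a multiple of four points. -/
theorem four_dvd_support (hy : y * y = 1) (hs : Perm.sign y = 1) : 4 ∣ y.support.card := by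
  by_cases h1 : y = 1
  · simp [h1]
  have hp : orderOf y = 2 := orderOf_eq_prime (by rw [pow_two, hy]) h1
  obtain ⟨k, hk⟩ := Perm.cycleType_prime_order (σ := y) (by rw [hp]; exact Nat.prime_two)
  rw [hp] at hk
  have hsum := y.sum_cycleType
  rw [hk, Multiset.sum_replicate, smul_eq_mul] at hsum
  have hsg := y.sign_of_cycleType
  rw [hk, Multiset.sum_replicate, Multiset.card_replicate, hs, smul_eq_mul] at hsg
  have hev : Even ((k + 1) * 2 + (k + 1)) := by
    by_contra hne
    rw [Odd.neg_one_pow (Nat.not_even_iff_odd.1 hne)] at hsg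
    exact absurd hsg (by decide)
  rw [← hsum]
  obtain ⟨m, hm⟩ := hev
  omega

/-- A choice of `k` of the transpositions of an involution. -/
theorem exists_pairs (hy : y * y = 1) : ∀ k : ℕ, 2 * k ≤ y.support.card →
    ∃ p : Fin k → α, (∀ i, y (p i) ≠ p i) ∧ ∀ i j, i ≠ j → p i ≠ p j ∧ p i ≠ y (p j) := by
  intro k
  induction k with
  | zero => exact fun _ => ⟨Fin.elim0, fun i => i.elim0, fun i => i.elim0⟩
  | succ k ih =>
    intro hk
    obtain ⟨p, hp, hd⟩ := ih (by omega)
    obtain ⟨q, hq, hqn⟩ : ∃ q ∈ y.support, q ∉ Finset.univ.image p ∪ Finset.univ.image (fun i => y (p i)) := by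
      refine Finset.exists_mem_notMem_of_card_lt_card ?_
      have h1 := Finset.card_union_le (Finset.univ.image p) (Finset.univ.image fun i => y (p i))
      have h2 : (Finset.univ.image p).card ≤ k := Finset.card_image_le.trans (by simp)
      have h3 : (Finset.univ.image fun i => y (p i)).card ≤ k := Finset.card_image_le.trans (by simp)
      omega
    simp only [Finset.mem_union, Finset.mem_image, Finset.mem_univ, true_and, not_or, not_exists] at hqn
    refine ⟨Fin.cons q p, Fin.cases (by simpa using Perm.mem_support.1 hq) (fun i => by simpa using hp i), ?_⟩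
    intro i j hij
    rcases Fin.eq_zero_or_eq_succ i with rfl | ⟨i, rfl⟩ <;> rcases Fin.eq_zero_or_eq_succ j with rfl | ⟨j, rfl⟩
    · exact absurd rfl hij
    · simp only [Fin.cons_zero, Fin.cons_succ]
      exact ⟨fun e => hqn.1 j e.symm, fun e => hqn.2 j e.symm⟩
    · simp only [Fin.cons_zero, Fin.cons_succ]
      exact ⟨fun e => hqn.1 i e, fun e => hqn.2 i (by rw [e, inv_apply_self hy])⟩
    · simp only [Fin.cons_succ]
      exact hd i j fun e => hij (congrArg Fin.succ e)

/-- Permutations moving each point at most to its `y`-partner commute. -/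
theorem commute_flips (hy : y * y = 1) {f h : Perm α} (hf : ∀ x, f x = x ∨ f x = y x)
    (hh : ∀ x, h x = x ∨ h x = y x) (hfy : Commute f y) (hhy : Commute h y) : Commute f h := by
  refine Equiv.ext fun x => ?_
  have ef : ∀ x, f (y x) = y (f x) := fun x => congrArg (fun p : Perm α => p x) hfy.eq
  have eh : ∀ x, h (y x) = y (h x) := fun x => congrArg (fun p : Perm α => p x) hhy.eq
  show f (h x) = h (f x)
  rcases hf x with e | e <;> rcases hh x with e' | e' <;>
    simp [e, e', ef, eh, inv_apply_self hy]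

/-- An element of order dividing five commuting with an involution of eight points fixes them. -/
theorem fix_of_pow_five (hy : y * y = 1) (hc : y.support.card ≤ 8) {x : Perm α} (hx : x ^ 5 = 1)
    (hxy : Commute x y) {p : α} (hp : y p ≠ p) : x p = p := by
  classical
  by_contra hne
  have h5 : orderOf x = 5 := by
    haveI : Fact (Nat.Prime 5) := ⟨by norm_num⟩
    exact orderOf_eq_prime hx fun h => hne (by rw [h]; rfl)
  have hpow : ∀ i : ℕ, y ((x ^ i) p) = (x ^ i) (y p) := fun i =>
    (congrArg (fun q : Perm α => q p) (hxy.pow_left i).eq).symm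
  have hinj : ∀ i j : ℕ, i < 5 → j < 5 → (x ^ i) p = (x ^ j) p → i = j := by
    intro i j hi hj e
    by_contra hij
    obtain ⟨d, hd, hd5, hfix⟩ : ∃ d, 0 < d ∧ d < 5 ∧ (x ^ d) p = p := by
      rcases lt_or_gt_of_ne hij with h | h
      · refine ⟨j - i, by omega, by omega, (x ^ i).injective ?_⟩
        rw [← Perm.mul_apply, ← pow_add, show i + (j - i) = j by omega, e]
      · refine ⟨i - j, by omega, by omega, (x ^ j).injective ?_⟩
        rw [← Perm.mul_apply, ← pow_add, show j + (i - j) = i by omega, e]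
    apply hne
    have hz : ∀ m : ℕ, ((x ^ d) ^ m) p = p := by
      intro m
      induction m with
      | zero => rfl
      | succ m ih => rw [pow_succ, Perm.mul_apply, hfix, ih]
    obtain ⟨m, hm⟩ : ∃ m, d * m % 5 = 1 := by
      interval_cases d
      · exact ⟨1, rfl⟩
      · exact ⟨3, rfl⟩
      · exact ⟨2, rfl⟩
      · exact ⟨4, rfl⟩
    have := hz m
    rwa [← pow_mul, ← pow_mod_orderOf, h5, hm, pow_one] at this
  have hcross : ∀ i j : ℕ, i < 5 → j < 5 → (x ^ i) p ≠ y ((x ^ j) p) := by
    intro i j hi hj e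
    have hd : (x ^ ((i + 5 - j) % 5)) p = y p := by
      apply (x ^ j).injective
      rw [← Perm.mul_apply, ← pow_add, ← hpow j, ← e, ← pow_mod_orderOf x (j + _), h5,
        ← pow_mod_orderOf x i, h5]
      congr 2
      omega
    generalize (i + 5 - j) % 5 = d at hd
    have h2 : (x ^ (d + d)) p = p := by
      rw [pow_add, Perm.mul_apply, hd, ← hpow d, hd, inv_apply_self hy]
    have h2' : (x ^ ((d + d) % 5)) p = p := by rw [← h5, pow_mod_orderOf]; exact h2
    have := hinj _ 0 (Nat.mod_lt _ (by norm_num)) (by norm_num) h2'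
    have hd' : (x ^ (d % 5)) p = y p := by rw [← h5, pow_mod_orderOf]; exact hd
    rw [show d % 5 = 0 by omega, pow_zero] at hd'
    exact hp hd'.symm
  let f : Fin 5 × Bool → α := fun q => if q.2 then y ((x ^ (q.1 : ℕ)) p) else (x ^ (q.1 : ℕ)) p
  have hf : Function.Injective f := by
    rintro ⟨i, b⟩ ⟨j, b'⟩ e
    cases b <;> cases b' <;> simp only [f, if_true, if_false, Bool.false_eq_true] at e
    · exact Prod.ext (Fin.ext (hinj i j i.2 j.2 e)) rfl
    · exact absurd e (hcross i j i.2 j.2)
    · exact absurd e.symm (hcross j i j.2 i.2)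
    · exact Prod.ext (Fin.ext (hinj i j i.2 j.2 (y.injective e))) rfl
  have hsub : Finset.univ.image f ⊆ y.support := by
    intro q hq
    obtain ⟨⟨i, b⟩, -, rfl⟩ := Finset.mem_image.1 hq
    rw [Perm.mem_support]
    have hne' : y ((x ^ (i : ℕ)) p) ≠ (x ^ (i : ℕ)) p := fun e =>
      hp ((x ^ (i : ℕ)).injective ((hpow i).symm.trans e))
    cases b <;> simp only [f, if_true, if_false, Bool.false_eq_true]
    · exact hne'
    · rw [inv_apply_self hy]; exact hne'.symm
  have := Finset.card_le_card hsub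
  rw [Finset.card_image_of_injective _ hf] at this
  simp at this
  omega

/-- A fourth root of unity squaring to an involution of eight points, commuting with an element
of order dividing three: the latter fixes the eight points. -/
theorem fix_of_pow_three (hy : y * y = 1) (hc : y.support.card ≤ 8) {x c : Perm α} (hx : x ^ 3 = 1)
    (hcy : c * c = y) (hxc : Commute x c) {p : α} (hp : y p ≠ p) : x p = p := by
  classical
  have h4 : c ^ 4 = 1 := by rw [show (4 : ℕ) = 2 * 2 from rfl, pow_mul, pow_two c, hcy, pow_two, hy]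
  have hcyc : Commute c y := hcy ▸ (Commute.refl c).mul_right (Commute.refl c)
  have hxy : Commute x y := hcy ▸ hxc.mul_right hxc
  have hx3 : x (x (x p)) = p := congrArg (fun q : Perm α => q p) (show x * x * x = 1 by
    rw [← hx, pow_succ, pow_two])
  have hcpow : ∀ (i : ℕ) (q : α), x ((c ^ i) q) = (c ^ i) (x q) := fun i q =>
    congrArg (fun r : Perm α => r q) (hxc.pow_right i).eq
  have hmoved : ∀ q : α, y q ≠ q → ∀ i : ℕ, y ((c ^ i) q) ≠ (c ^ i) q := fun q hq i e =>
    hq ((c ^ i).injective ((congrArg (fun r : Perm α => r q) (hcyc.pow_left i).eq).trans e))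
  let O : α → Finset α := fun q => (Finset.range 4).image fun i => (c ^ i) q
  have hO : ∀ q : α, y q ≠ q → (O q).card = 4 ∧ O q ⊆ y.support := by
    intro q hq
    refine ⟨?_, fun r hr => ?_⟩
    · rw [Finset.card_image_of_injOn, Finset.card_range]
      intro i hi j hj e
      simp only [Finset.coe_range, Set.mem_Iio] at hi hj
      by_contra hij
      obtain ⟨d, hd, hd4, hfix⟩ : ∃ d, 0 < d ∧ d < 4 ∧ (c ^ d) q = q := by
        rcases lt_or_gt_of_ne hij with h | h
        · refine ⟨j - i, by omega, by omega, (c ^ i).injective ?_⟩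
          rw [← Perm.mul_apply, ← pow_add, show i + (j - i) = j by omega]
          exact e.symm
        · refine ⟨i - j, by omega, by omega, (c ^ j).injective ?_⟩
          rw [← Perm.mul_apply, ← pow_add, show j + (i - j) = i by omega]
          exact e
      apply hq
      rw [← hcy]
      interval_cases d
      · rw [pow_one] at hfix
        show c (c q) = q
        rw [hfix, hfix]
      · rwa [pow_two] at hfix
      · have h1 : c q = q := by
          calc c q = c ((c ^ 3) q) := by rw [hfix]
            _ = (c ^ 4) q := by rw [pow_succ' c 3]; rfl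
            _ = q := by rw [h4]; rfl
        show c (c q) = q
        rw [h1, h1]
    · obtain ⟨i, -, rfl⟩ := Finset.mem_image.1 hr
      exact Perm.mem_support.2 (hmoved q hq i)
  have hmem : ∀ q r : α, r ∈ O q ↔ ∃ i < 4, (c ^ i) q = r := fun q r => by simp [O]
  have hp' : y (x p) ≠ x p := fun e => hp (x.injective ((congrArg (fun q : Perm α => q p) hxy.eq).trans e))
  by_cases h1 : x p ∈ O p
  · obtain ⟨i, hi, e⟩ := (hmem _ _).1 h1
    have h3 : (c ^ (i + (i + i))) p = p := by
      have := hx3
      rw [← e, hcpow i p, ← e, hcpow i, hcpow i p, ← e] at this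
      rwa [pow_add, pow_add, Perm.mul_apply, Perm.mul_apply]
    have hi0 : i = 0 := by
      by_contra hi0
      have hcard := (hO p hp).1
      have : (c ^ ((i + (i + i)) % 4)) p = (c ^ 0) p := by
        rw [pow_zero, ← pow_eq_pow_mod (i + (i + i)) h4]; exact h3
      have hinj := Finset.card_image_iff.1 (hcard.trans (Finset.card_range 4).symm)
      have := hinj (Finset.mem_coe.2 (Finset.mem_range.2 (Nat.mod_lt _ (by norm_num))))
        (Finset.mem_coe.2 (Finset.mem_range.2 (by norm_num : 0 < 4))) this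
      omega
    rw [← e, hi0, pow_zero]; rfl
  · exfalso
    have hdisj : Disjoint (O p) (O (x p)) := by
      rw [Finset.disjoint_left]
      intro r hr hr'
      obtain ⟨i, hi, e⟩ := (hmem _ _).1 hr
      obtain ⟨j, hj, e'⟩ := (hmem _ _).1 hr'
      refine h1 ((hmem _ _).2 ⟨(i + (4 - j)) % 4, Nat.mod_lt _ (by norm_num), ?_⟩)
      apply (c ^ j).injective
      rw [e', ← e, ← Perm.mul_apply, ← pow_add, pow_eq_pow_mod (j + (i + (4 - j)) % 4) h4,
        show (j + (i + (4 - j)) % 4) % 4 = i from by omega]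
    have huniv : O p ∪ O (x p) = y.support := Finset.eq_of_subset_of_card_le
      (Finset.union_subset (hO p hp).2 (hO _ hp').2)
      (by rw [Finset.card_union_of_disjoint hdisj, (hO p hp).1, (hO _ hp').1]; omega)
    have hxx : x (x p) ∈ O p ∪ O (x p) := by
      rw [huniv, Perm.mem_support]
      exact fun e => hp' (x.injective ((congrArg (fun q : Perm α => q (x p)) hxy.eq).trans e))
    rcases Finset.mem_union.1 hxx with h | h
    · obtain ⟨i, hi, e⟩ := (hmem _ _).1 h
      have := hcpow i p
      rw [e, hx3] at this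
      refine h1 ((hmem _ _).2 ⟨(4 - i) % 4, Nat.mod_lt _ (by norm_num), ?_⟩)
      apply (c ^ i).injective
      rw [← this, ← Perm.mul_apply, ← pow_add, pow_eq_pow_mod _ h4,
        show (i + (4 - i) % 4) % 4 = 0 from by omega, pow_zero]
      rfl
    · obtain ⟨i, hi, e⟩ := (hmem _ _).1 h
      have := hcpow i (x p)
      rw [e, hx3, ← e, ← Perm.mul_apply, ← pow_add] at this
      refine h1 ((hmem _ _).2 ⟨(4 - (i + i) % 4) % 4, Nat.mod_lt _ (by norm_num), ?_⟩)
      apply (c ^ (i + i)).injective
      rw [← this, ← Perm.mul_apply, ← pow_add, pow_eq_pow_mod _ h4,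
        show ((i + i) + (4 - (i + i) % 4) % 4) % 4 = 0 from by omega, pow_zero]
      rfl

/-- With at least six transpositions two square roots of `y` conjugate by an element of order three
commuting with `y` do not commute modulo `y`. -/
theorem exists_noncommuting_root (hy : y * y = 1) (hc : 12 ≤ y.support.card) {a : Perm α} (ha : a * a = y) :
    ∃ g : Perm α, g ^ 3 = 1 ∧ Perm.sign g = 1 ∧ Commute g y ∧
      a * (g * a * g⁻¹) * a⁻¹ * (g * a * g⁻¹)⁻¹ ≠ 1 ∧ a * (g * a * g⁻¹) * a⁻¹ * (g * a * g⁻¹)⁻¹ ≠ y := by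
  classical
  have ha4 : a ^ 4 = 1 := by rw [show (4 : ℕ) = 2 * 2 from rfl, pow_mul, pow_two a, ha, pow_two, hy]
  have hay : ∀ q, a (y q) = y (a q) := fun q => by rw [← ha]; rfl
  have haa : ∀ q, a (a q) = y q := fun q => congrArg (fun r : Perm α => r q) ha
  have hyy := inv_apply_self hy
  let Orb : α → Finset α := fun q => {q, a q, y q, y (a q)}
  obtain ⟨p1, hp1⟩ : ∃ p, p ∈ y.support := Finset.card_pos.1 (by omega)
  obtain ⟨p3, hp3, hp3'⟩ : ∃ p ∈ y.support, p ∉ Orb p1 :=
    Finset.exists_mem_notMem_of_card_lt_card (lt_of_le_of_lt Finset.card_le_four (by omega))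
  obtain ⟨p5, hp5, hp5'⟩ : ∃ p ∈ y.support, p ∉ Orb p1 ∪ Orb p3 :=
    Finset.exists_mem_notMem_of_card_lt_card (lt_of_le_of_lt ((Finset.card_union_le _ _).trans
      (Nat.add_le_add Finset.card_le_four Finset.card_le_four)) (by omega))
  rw [Perm.mem_support] at hp1 hp3 hp5
  simp only [Orb, Finset.mem_union, Finset.mem_insert, Finset.mem_singleton, not_or] at hp3' hp5'
  obtain ⟨n31, n32, n33, n34⟩ := hp3'
  obtain ⟨⟨n51, n52, n53, n54⟩, n55, n56, n57, n58⟩ := hp5'
  have hmv : ∀ q, y q ≠ q → y (a q) ≠ a q ∧ a q ≠ q ∧ y (a q) ≠ q := by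
    intro q hq
    refine ⟨fun e => hq (a.injective ((hay q).trans e)), fun e => hq ?_, fun e => ?_⟩
    · rw [← haa, e, e]
    · have h2 : a q = y q := by
        have h := congrArg (fun r => y r) e
        simpa [hyy] using h
      apply hq
      calc y q = a (a q) := (haa q).symm
        _ = y (a q) := by rw [h2, hay, h2]
        _ = q := e
  obtain ⟨m1a, m1b, m1c⟩ := hmv p1 hp1
  obtain ⟨m3a, m3b, m3c⟩ := hmv p3 hp3
  obtain ⟨m5a, m5b, m5c⟩ := hmv p5 hp5
  set b := a p1 with hb
  let g : Perm α := (swap b p3 * swap p3 p5) * (swap (y b) (y p3) * swap (y p3) (y p5))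
  have gdef : g = (swap b p3 * swap p3 p5) * (swap (y b) (y p3) * swap (y p3) (y p5)) := rfl
  have k1 : b ≠ p3 := fun e => n32 e.symm
  have k2 : b ≠ p5 := fun e => n52 e.symm
  have k3 : p3 ≠ p5 := fun e => n55 e.symm
  have k4 : b ≠ y p3 := fun e => n34 (by rw [e, hyy])
  have k5 : b ≠ y p5 := fun e => n54 (by rw [e, hyy])
  have k6 : p3 ≠ y p5 := fun e => n57 (by rw [e, hyy])
  have k7 : p3 ≠ y b := fun e => n34 e
  have k8 : p5 ≠ y b := fun e => n54 e
  have k9 : p5 ≠ y p3 := n57
  have q1 : y b ≠ y p3 := fun e => k1 (y.injective e)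
  have q2 : y b ≠ y p5 := fun e => k2 (y.injective e)
  have q3 : y p3 ≠ y p5 := fun e => k3 (y.injective e)
  have hgp : g b = p3 ∧ g p5 = b := by
    constructor
    · rw [gdef]
      simp only [Perm.mul_apply]
      rw [swap_apply_of_ne_of_ne k4 k5, swap_apply_of_ne_of_ne m1a.symm k4,
        swap_apply_of_ne_of_ne k1 k2, swap_apply_left]
    · rw [gdef]
      simp only [Perm.mul_apply]
      rw [swap_apply_of_ne_of_ne k9 hp5.symm, swap_apply_of_ne_of_ne k8 k9, swap_apply_right,
        swap_apply_right]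
  have hfix : ∀ q, q ≠ b → q ≠ p3 → q ≠ p5 → q ≠ y b → q ≠ y p3 → q ≠ y p5 → g q = q := by
    intro q e1 e2 e3 e4 e5 e6
    rw [gdef]
    simp only [Perm.mul_apply]
    rw [swap_apply_of_ne_of_ne e5 e6, swap_apply_of_ne_of_ne e4 e5, swap_apply_of_ne_of_ne e2 e3,
      swap_apply_of_ne_of_ne e1 e2]
  set s₁ := swap b p3 * swap p3 p5 with hs₁
  set s₂ := swap (y b) (y p3) * swap (y p3) (y p5) with hs₂
  have hyi : y⁻¹ = y := inv_eq_of_mul_eq_one_right hy
  have hconj : y * s₁ * y⁻¹ = s₂ := by rw [hs₂, swap_apply_apply, swap_apply_apply, hs₁]; group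
  have hconj' : y * s₂ * y⁻¹ = s₁ := by
    rw [← hconj, hyi, show y * (y * s₁ * y) * y = (y * y) * s₁ * (y * y) by group, hy, one_mul, mul_one]
  have h31 : orderOf s₁ = 3 := by
    rw [hs₁, swap_comm b p3]
    exact (Perm.isThreeCycle_swap_mul_swap_same k1.symm k3 k2).orderOf
  have hdis : Perm.Disjoint s₁ s₂ := by
    intro q
    by_cases e : q = b ∨ q = p3 ∨ q = p5
    · right
      rw [hs₂, Perm.mul_apply]
      rcases e with rfl | rfl | rfl
      · rw [swap_apply_of_ne_of_ne k4 k5, swap_apply_of_ne_of_ne m1a.symm k4]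
      · rw [swap_apply_of_ne_of_ne hp3.symm k6, swap_apply_of_ne_of_ne k7 hp3.symm]
      · rw [swap_apply_of_ne_of_ne k9 hp5.symm, swap_apply_of_ne_of_ne k8 k9]
    · left
      simp only [not_or] at e
      rw [hs₁, Perm.mul_apply, swap_apply_of_ne_of_ne e.2.1 e.2.2, swap_apply_of_ne_of_ne e.1 e.2.1]
  have hcube : g ^ 3 = 1 := by
    have e1 : s₁ ^ 3 = 1 := by rw [← h31, pow_orderOf_eq_one]
    rw [gdef, hdis.commute.mul_pow, e1, one_mul, ← hconj, conj_pow, e1, mul_one, mul_inv_cancel]
  have hsign : Perm.sign g = 1 := by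
    rw [gdef, hs₁, hs₂, map_mul, map_mul, map_mul, Perm.sign_swap k1, Perm.sign_swap k3, Perm.sign_swap q1,
      Perm.sign_swap q3]
    decide
  have hgy : Commute g y := by
    have e : y * g * y⁻¹ = g := by
      rw [gdef, show y * (s₁ * s₂) * y⁻¹ = (y * s₁ * y⁻¹) * (y * s₂ * y⁻¹) by group, hconj, hconj',
        hdis.commute.eq]
    exact (mul_inv_eq_iff_eq_mul.1 e).symm
  have hg_inv : ∀ q r, g q = r → g⁻¹ r = q := fun q r e => by rw [← e]; exact g.symm_apply_apply q
  -- the two images of `p1`
  have f1 : g p1 = p1 := hfix p1 m1b.symm (Ne.symm n31) (Ne.symm n51) m1c.symm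
    (fun e => n33 (by rw [e, hyy])) (fun e => n53 (by rw [e, hyy]))
  have ef : g (a p5) = a p5 := by
    refine hfix _ (fun e => n51 (a.injective e)) (fun e => n58 ?_) m5b
      (fun e => n53 (a.injective (e.trans (hay p1).symm))) (fun e => n56 (y.injective ?_))
      (fun e => m5c (by rw [e, hyy]))
    · rw [← hyy p5, ← haa p5, e]
    · rw [← haa p5, e, hay]
  set b' := g * a * g⁻¹ with hb'
  have ebp : b' p1 = p3 := by
    rw [hb', Perm.mul_apply, Perm.mul_apply, hg_inv _ _ f1, ← hb, hgp.1]
  have ebb : b' b = a p5 := by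
    rw [hb', Perm.mul_apply, Perm.mul_apply, hg_inv _ _ hgp.2, ef]
  have hne : ∀ d : Perm α, (d = 1 ∨ d = y) → a * b' ≠ d * (b' * a) := by
    intro d hd e
    have h := congrArg (fun r : Perm α => r p1) e
    simp only [Perm.mul_apply, ebp, ← hb, ebb] at h
    rcases hd with rfl | rfl
    · exact n55 (a.injective h).symm
    · exact n57 (a.injective (h.trans (hay p5).symm) ▸ (hyy p5).symm)
  refine ⟨g, hcube, hsign, hgy, fun e => hne 1 (Or.inl rfl) ?_, fun e => hne y (Or.inr rfl) ?_⟩
  · rw [one_mul]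
    rw [mul_inv_eq_one, mul_inv_eq_iff_eq_mul] at e
    exact e
  · rw [← e, hb']; group

end H37.AltDeg
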