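import Cfsg.Agent.H37.AltDeg.Dist
import Cfsg.Agent.H37.AltDeg.Lifts
import Cfsg.Agent.H37.AltDeg.Pairs

/-! The distinguishing property fails for a non-central involution and the central one. -/

set_option autoImplicit false
set_option linter.unusedSectionVars false

namespace H37.AltDeg

open Equiv
open scoped commutatorElement

variable {α : Type*} [Fintype α] [DecidableEq α] {y : Perm α}

/-- If `g` fixes every point moved by `y` then so does the commutator of `A` and its `g`-conjugate. -/
theorem comm_fix {A g : Perm α} (hA : Commute A y) (hg : ∀ p, y p ≠ p → g p = p) {p : α} (hp : y p ≠ p) :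
    ⁅A, g * A * g⁻¹⁆ p = p := by
  have hmv : ∀ q, y q ≠ q → y (A q) ≠ A q := fun q hq e =>
    hq (A.injective ((congrArg (fun r : Perm α => r q) hA.eq).trans e))
  have hmv' : ∀ q, y q ≠ q → y (A⁻¹ q) ≠ A⁻¹ q := fun q hq e =>
    hq ((A⁻¹).injective ((congrArg (fun r : Perm α => r q) hA.inv_left.eq).trans e))
  have hgi : ∀ q, y q ≠ q → g⁻¹ q = q := fun q hq => by
    conv_lhs => rw [← hg q hq]
    exact g.symm_apply_apply q
  have hB : ∀ q, y q ≠ q → (g * A * g⁻¹) q = A q := fun q hq => by
    rw [Perm.mul_apply, Perm.mul_apply, hgi q hq, hg _ (hmv q hq)]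
  have hBi : ∀ q, y q ≠ q → (g * A * g⁻¹)⁻¹ q = A⁻¹ q := fun q hq => by
    apply (g * A * g⁻¹).injective
    rw [hB _ (hmv' q hq)]
    simp
  rw [commutatorElement_def, Perm.mul_apply, Perm.mul_apply, Perm.mul_apply, hBi p hp,
    hB _ (hmv' _ (hmv' p hp))]
  simp

/-- An element of order five fixing the points moved by `y`, not commuting with a square root of `y`,
gives a conjugate of the latter by a three-cycle with a non-trivial commutator. -/
theorem exists_root_eight (hy : y * y = 1) (hy1 : y ≠ 1) {A X : Perm α} (hA : A * A = y) (hX : X ^ 5 = 1)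
    (hXy : Commute X y) (hfix : ∀ p, y p ≠ p → X p = p) (hne : ¬ Commute X A) :
    ∃ g : Perm α, g ^ 3 = 1 ∧ Commute g y ∧ ⁅A, g * A * g⁻¹⁆ ≠ 1 ∧ ⁅A, g * A * g⁻¹⁆ ≠ y := by
  classical
  have hAy : Commute A y := hA ▸ (Commute.refl A).mul_right (Commute.refl A)
  have hAA : ∀ q, A (A q) = y q := fun q => congrArg (fun r : Perm α => r q) hA
  have hAf : ∀ q, y q = q → y (A q) = A q := fun q hq => by
    rw [← hAA, hAA q, hq]
  set F : Finset α := Finset.univ.filter fun q => y q = q
  have hF : ∀ q, q ∈ F ↔ y q = q := fun q => by simp [F]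
  obtain ⟨q, hq, hqr⟩ : ∃ q, y q = q ∧ A q ≠ q := by
    by_contra hall
    simp only [not_exists, not_and, not_not] at hall
    exact hne (Perm.Disjoint.commute fun p => (em (y p = p)).symm.imp (hfix p) (hall p))
  have h5 : 5 ≤ F.card := by
    have hX1 : X ≠ 1 := fun e => hne (e ▸ Commute.one_left A)
    haveI : Fact (Nat.Prime 5) := ⟨by norm_num⟩
    have ho : orderOf X = 5 := orderOf_eq_prime hX hX1
    obtain ⟨k, hk⟩ := Perm.cycleType_prime_order (σ := X) (by rw [ho]; norm_num)
    have hsum := X.sum_cycleType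
    rw [hk, ho, Multiset.sum_replicate, smul_eq_mul] at hsum
    have hsub : X.support ⊆ F := fun p hp => (hF p).2 (by
      by_contra h
      exact Perm.mem_support.1 hp (hfix p h))
    have := Finset.card_le_card hsub
    omega
  set r := A q with hr
  have hry : y r = r := hAf q hq
  have hArq : A r = q := by rw [hr, hAA, hq]
  have hcommg : ∀ g : Perm α, (∀ p, y p ≠ p → g p = p) → Commute g y ∧ ⁅A, g * A * g⁻¹⁆ ≠ y := by
    intro g hg
    refine ⟨Perm.Disjoint.commute fun p => (em (y p = p)).symm.imp (hg p) id, fun e => ?_⟩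
    obtain ⟨p, hp⟩ : ∃ p, y p ≠ p := by
      by_contra hall
      simp only [not_exists, not_not] at hall
      exact hy1 (Equiv.ext hall)
    exact hp ((congrArg (fun t : Perm α => t p) e).symm.trans (comm_fix hAy hg hp))
  have hne1 : ∀ g : Perm α, ∀ p, A ((g * A * g⁻¹) p) ≠ (g * A * g⁻¹) (A p) → ⁅A, g * A * g⁻¹⁆ ≠ 1 :=
    fun g p hp e => hp (congrArg (fun t : Perm α => t p) (commutatorElement_eq_one_iff_mul_comm.1 e))
  have hgi : ∀ (g : Perm α) (a b : α), g a = b → g⁻¹ b = a := fun g a b e => by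
    rw [← e]; exact g.symm_apply_apply a
  by_cases hcase : ∃ s, y s = s ∧ A s = s
  · obtain ⟨s, hs, hAs⟩ := hcase
    have hsq : s ≠ q := fun e => hqr (by rw [e, ← hr] at hAs; exact hAs)
    have hsr : s ≠ r := fun e => hqr (by rw [e, hArq] at hAs; exact hAs.symm)
    let g : Perm α := swap q r * swap r s
    have g1 : g q = r := by
      show swap q r (swap r s q) = r
      rw [swap_apply_of_ne_of_ne hqr.symm hsq.symm, swap_apply_left]
    have g2 : g r = s := by
      show swap q r (swap r s r) = s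
      rw [swap_apply_left, swap_apply_of_ne_of_ne hsq hsr]
    have g3 : g s = q := by
      show swap q r (swap r s s) = q
      rw [swap_apply_right, swap_apply_right]
    have hg : ∀ p, y p ≠ p → g p = p := fun p hp => by
      have e1 : p ≠ q := fun e => hp (e ▸ hq)
      have e2 : p ≠ r := fun e => hp (e ▸ hry)
      have e3 : p ≠ s := fun e => hp (e ▸ hs)
      show swap q r (swap r s p) = p
      rw [swap_apply_of_ne_of_ne e2 e3, swap_apply_of_ne_of_ne e1 e2]
    refine ⟨g, Cfsg.Agent.S3335.cube_eq hqr.symm hsq.symm hsr.symm, (hcommg g hg).1, hne1 g q ?_, (hcommg g hg).2⟩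
    rw [← hr, Perm.mul_apply, Perm.mul_apply, hgi g _ _ g3, hAs, g3, ← hr, Perm.mul_apply, Perm.mul_apply,
      hgi g _ _ g1, ← hr, g2]
    exact hsr.symm
  · simp only [not_exists, not_and] at hcase
    obtain ⟨s, hsF, hs'⟩ : ∃ s ∈ F, s ∉ ({q, r} : Finset α) :=
      Finset.exists_mem_notMem_of_card_lt_card (lt_of_le_of_lt Finset.card_le_two (by omega))
    obtain ⟨u, huF, hu'⟩ : ∃ u ∈ F, u ∉ ({q, r, s, A s} : Finset α) :=
      Finset.exists_mem_notMem_of_card_lt_card (lt_of_le_of_lt Finset.card_le_four (by omega))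
    rw [hF] at hsF huF
    simp only [Finset.mem_insert, Finset.mem_singleton, not_or] at hs' hu'
    obtain ⟨hsq, hsr⟩ := hs'
    obtain ⟨huq, hur, hus, hut⟩ := hu'
    set t := A s with ht
    have hts : t ≠ s := hcase s hsF
    have htq : t ≠ q := fun e => hsr (A.injective (e.trans hArq.symm))
    have hAt : A t = s := by rw [ht, hAA, hsF]
    have hrs : r ≠ s := fun e => hsr e.symm
    let g : Perm α := swap q s * swap s u
    have g1 : g q = s := by
      show swap q s (swap s u q) = s
      rw [swap_apply_of_ne_of_ne (Ne.symm hsq) (Ne.symm huq), swap_apply_left]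
    have g2 : g s = u := by
      show swap q s (swap s u s) = u
      rw [swap_apply_left, swap_apply_of_ne_of_ne huq hus]
    have g3 : g u = q := by
      show swap q s (swap s u u) = q
      rw [swap_apply_right, swap_apply_right]
    have gfix : ∀ p, p ≠ q → p ≠ s → p ≠ u → g p = p := fun p e1 e2 e3 => by
      show swap q s (swap s u p) = p
      rw [swap_apply_of_ne_of_ne e2 e3, swap_apply_of_ne_of_ne e1 e2]
    have hg : ∀ p, y p ≠ p → g p = p := fun p hp =>
      gfix p (fun e => hp (e ▸ hq)) (fun e => hp (e ▸ hsF)) (fun e => hp (e ▸ huF))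
    refine ⟨g, Cfsg.Agent.S3335.cube_eq (Ne.symm hsq) (Ne.symm huq) (Ne.symm hus), (hcommg g hg).1, hne1 g u ?_,
      (hcommg g hg).2⟩
    have hgt : g t = t := gfix t htq hts (Ne.symm hut)
    set v := A u with hv
    have hvq : v ≠ q := fun e => hur (A.injective (e.trans hArq.symm))
    have hvu : v ≠ u := hcase u huF
    have hvs : v ≠ s := fun e => hut (A.injective (e.trans hAt.symm))
    have hAv : A v = u := by rw [hv, hAA, huF]
    rw [Perm.mul_apply, Perm.mul_apply, hgi g _ _ g2, ← ht, hgt, hAt, Perm.mul_apply, Perm.mul_apply,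
      hgi g _ _ (gfix v hvq hvs hvu), hAv, g3]
    exact hsq

variable {Γ : Type*} [Group Γ] [Finite Γ] {n : ℕ} {φ : Γ →* Perm (Fin n)} {z w : Γ}

/-- The image of the clause. -/
theorem clause_image (d : H60.AltCover.Data φ z) {a : Γ} (h : Clause w z a) {γ : Perm (Fin n)}
    (hγ : γ ^ 3 = 1) (hc : Commute γ (φ w)) :
    ⁅φ a, γ * φ a * γ⁻¹⁆ = 1 ∨ ⁅φ a, γ * φ a * γ⁻¹⁆ = φ w := by
  obtain ⟨g, hg, hg3⟩ := exists_odd_lift d (k := 3) (by decide) hγ
  have hgw : Commute g w :=
    (commute_odd d (k := 3) (by decide) (show Commute (φ w) (φ g) from hg ▸ hc.symm) (by rw [hg, hγ])).symm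
  have he : ⁅φ a, γ * φ a * γ⁻¹⁆ = φ ⁅a, g * a * g⁻¹⁆ := by
    rw [map_commutatorElement, map_mul, map_mul, map_inv, hg]
  rcases h g hgw (d.central g) hg3 with e | e | e | e <;> rw [he, e]
  · exact Or.inl (map_one φ)
  · exact Or.inr rfl
  · exact Or.inl d.zmem
  · exact Or.inr (by rw [map_mul, d.zmem, mul_one])

/-- With twelve moved points no root of `φ w` satisfies the clause. -/
theorem not_clause (d : H60.AltCover.Data φ z) (hy : φ w * φ w = 1) (hc : 12 ≤ (φ w).support.card) {a : Γ}
    (ha : φ a * φ a = φ w) (h : Clause w z a) : False := by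
  obtain ⟨γ, h3, -, hcy, h1, h2⟩ := exists_noncommuting_root hy hc ha
  exact (clause_image d h h3 hcy).elim h1 h2

/-- The property fails for the pair `(w, z)`. -/
theorem not_dist (d : H60.AltCover.Data φ z) (hy : φ w * φ w = 1) (hy1 : φ w ≠ 1)
    (hs : (φ w).support.card ≤ 8 ∨ 12 ≤ (φ w).support.card) : ¬ Dist w z := by
  rintro (⟨a, x, -, -, hxw, -, ha, hx, hcl, hne⟩ |
    ⟨a, x, c, c', haw, -, hxw, -, -, -, hcw, -, hx, hcomm, -, hc', -, hcl', -, hxc'⟩)
  · have hA : φ a * φ a = φ w := by rw [← map_mul, ha]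
    rcases hs with hs | hs
    · have hX : φ x ^ 5 = 1 := by rw [← map_pow, hx, map_one]
      obtain ⟨γ, h3, hcy, h1, h2⟩ := exists_root_eight hy hy1 hA hX (hxw.map φ)
        (fun p hp => fix_of_pow_five hy hs hX (hxw.map φ) hp)
        (fun e => hne (commute_odd d (k := 5) (by decide) e.symm hX).symm)
      exact (clause_image d hcl h3 hcy).elim h1 h2
    · exact not_clause d hy hs hA hcl
  · have hC : φ c' * φ c' = φ w := by rw [← map_mul, hc', map_mul, d.zmem, mul_one]
    rcases hs with hs | hs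
    · have hX : φ x ^ 3 = 1 := by rw [← map_pow, hx, map_one]
      obtain ⟨p, hp⟩ : ∃ p, φ w p ≠ p := by
        by_contra hall
        simp only [not_exists, not_not] at hall
        exact hy1 (Equiv.ext hall)
      have hK : ⁅φ a, φ x * φ a * (φ x)⁻¹⁆ = φ w := by
        rw [← map_inv, ← map_mul, ← map_mul, ← map_commutatorElement, hcomm]
      exact hp ((congrArg (fun t : Perm (Fin n) => t p) hK).symm.trans
        (comm_fix (haw.map φ) (fun q hq => fix_of_pow_three hy hs hX hC (hxc'.map φ) hq) hp))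
    · exact not_clause d hy hs hC hcl'

end H37.AltDeg
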