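import Cfsg.Agent.H37.AltDeg.Dist
import Cfsg.Agent.H37.AltDeg.Lifts
import Cfsg.Agent.H37.AltDeg.Pairs
import Cfsg.Agent.H37.AltDeg.Flip

/-! The distinguishing property holds for the central involution and any other involution. -/

set_option autoImplicit false
set_option linter.unusedSectionVars false

namespace H37.AltDeg

open Equiv
open scoped commutatorElement

variable {α : Type*} [Fintype α] [DecidableEq α] {y : Perm α}

/-- A choice of `k` pairs of an involution as an embedding. -/
theorem exists_pair_emb (hy : y * y = 1) {k : ℕ} (hk : 2 * k ≤ y.support.card) :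
    ∃ f : Fin k × Bool ↪ α, ∀ i b, y (f (i, b)) = f (i, !b) := by
  obtain ⟨p, hp, hd⟩ := exists_pairs hy k hk
  have hyy := inv_apply_self hy
  refine ⟨⟨fun v => if v.2 then y (p v.1) else p v.1, ?_⟩, ?_⟩
  · rintro ⟨i, b⟩ ⟨j, b'⟩ e
    by_cases hij : i = j
    · subst hij
      cases b <;> cases b' <;> simp only [if_true, if_false, Bool.false_eq_true] at e
      · rfl
      · exact absurd e.symm (hp i)
      · exact absurd e (hp i)
      · rfl
    · exfalso
      cases b <;> cases b' <;> simp only [if_true, if_false, Bool.false_eq_true] at e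
      · exact (hd i j hij).1 e
      · exact (hd i j hij).2 e
      · exact (hd j i (Ne.symm hij)).2 e.symm
      · exact (hd i j hij).1 (y.injective e)
  · intro i b
    cases b
    · rfl
    · exact hyy _

variable {Γ : Type*} [Group Γ] [Finite Γ] {n : ℕ} {φ : Γ →* Perm (Fin n)} {z w : Γ}

theorem clause_of_image (d : H60.AltCover.Data φ z) {a g : Γ}
    (h : φ a * φ (g * a * g⁻¹) = φ (g * a * g⁻¹) * φ a ∨ φ a * φ (g * a * g⁻¹) = φ w * (φ (g * a * g⁻¹) * φ a)) :
    ⁅a, g * a * g⁻¹⁆ = 1 ∨ ⁅a, g * a * g⁻¹⁆ = z ∨ ⁅a, g * a * g⁻¹⁆ = w ∨ ⁅a, g * a * g⁻¹⁆ = z * w := by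
  rcases h with h | h
  · have e : φ ⁅a, g * a * g⁻¹⁆ = φ 1 := by
      rw [map_commutatorElement, map_one]; exact commutatorElement_eq_one_iff_mul_comm.2 h
    rcases d.eq_or e with k | k
    · exact Or.inl k
    · exact Or.inr (Or.inl (k.trans (one_mul z)))
  · have e : φ ⁅a, g * a * g⁻¹⁆ = φ w := by
      rw [map_commutatorElement, commutatorElement_def, h]; group
    rcases d.eq_or e with k | k
    · exact Or.inr (Or.inr (Or.inl k))
    · exact Or.inr (Or.inr (Or.inr (k.trans (d.central w))))

/-- A lift of a square root of `φ w` on eight points, pairing the pairs, satisfies the clause. -/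
theorem clause_root (d : H60.AltCover.Data φ z) (f : Fin 4 × Bool ↪ Fin n)
    (hwf : ∀ i b, φ w (f (i, b)) = f (i, !b)) (hwo : ∀ q, q ∉ Set.range f → φ w q = q)
    (T : Perm (Fin 4 × Bool))
    (hT : ∀ (σ : Perm (Fin 4)) (δ : Fin 4 → Bool), ((∀ v, T (conj4 T σ δ v) = conj4 T σ δ (T v)) ∨
      ∀ v, T (conj4 T σ δ v) = flip4 (conj4 T σ δ (T v))))
    {a : Γ} (haf : ∀ v, φ a (f v) = f (T v)) (hao : ∀ q, q ∉ Set.range f → φ a q = q) :
    Clause z w a := by
  intro g _ hgw _
  apply clause_of_image d
  set A := φ a with hA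
  set γ := φ g with hγ
  have hgy : ∀ q, γ (φ w q) = φ w (γ q) := fun q => congrArg (fun r : Perm (Fin n) => r q) (hgw.map φ).eq
  have hmem : ∀ v, γ (f v) ∈ Set.range f := fun v => by
    by_contra h
    have h2 := hwo _ h
    rw [← hgy, show f v = f (v.1, v.2) from rfl, hwf] at h2
    have h3 := congrArg Prod.snd (f.injective (γ.injective h2))
    revert h3
    cases v.2 <;> simp
  choose r hr using fun i => hmem (i, false)
  have hγf : ∀ i b, γ (f (i, b)) = f ((r i).1, xor b (r i).2) := by
    intro i b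
    cases b
    · rw [← hr i, Bool.false_xor]
    · rw [show f (i, true) = φ w (f (i, false)) from (hwf i false).symm, hgy, ← hr i,
        show f (r i) = f ((r i).1, (r i).2) from rfl, hwf, Bool.true_xor]
  have hσ : Function.Injective fun i => (r i).1 := by
    intro i j e
    have e' : (r i).1 = (r j).1 := e
    have h : γ (f (i, (r i).2)) = γ (f (j, (r j).2)) := by rw [hγf, hγf, e', Bool.xor_self, Bool.xor_self]
    exact congrArg Prod.fst (f.injective (γ.injective h))
  let σ : Perm (Fin 4) := Equiv.ofBijective _ (Finite.injective_iff_bijective.1 hσ)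
  let δ : Fin 4 → Bool := fun i => (r i).2
  have hγf' : ∀ i b, γ (f (i, b)) = f (σ i, xor b (δ i)) := hγf
  set B := φ (g * a * g⁻¹) with hB
  have hBeq : B = γ * A * γ⁻¹ := by rw [hB, map_mul, map_mul, map_inv]
  have hBf : ∀ v, B (f v) = f (conj4 T σ δ v) := by
    rintro ⟨j, b⟩
    have hpre : γ⁻¹ (f (j, b)) = f (σ.symm j, xor b (δ (σ.symm j))) := by
      apply γ.injective
      rw [hγf', Equiv.apply_symm_apply, Bool.xor_assoc, Bool.xor_self, Bool.xor_false]
      exact γ.apply_symm_apply _
    rw [hBeq, Perm.mul_apply, Perm.mul_apply, hpre, haf,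
      show ∀ v, f v = f (v.1, v.2) from fun _ => rfl, hγf']
    rfl
  have hBo : ∀ q, q ∉ Set.range f → B q = q := by
    intro q hq
    have h : γ⁻¹ q ∉ Set.range f := fun ⟨v, hv⟩ => hq (by
      rw [← γ.apply_symm_apply q, show γ.symm q = γ⁻¹ q from rfl, ← hv]; exact hmem v)
    rw [hBeq, Perm.mul_apply, Perm.mul_apply, hao _ h]
    exact γ.apply_symm_apply q
  rcases hT σ δ with h | h
  · refine Or.inl (Equiv.ext fun q => ?_)
    by_cases hq : q ∈ Set.range f
    · obtain ⟨v, rfl⟩ := hq
      rw [Perm.mul_apply, Perm.mul_apply, hBf, haf, haf, hBf, h]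
    · rw [Perm.mul_apply, Perm.mul_apply, hBo q hq, hao q hq, hBo q hq]
  · refine Or.inr (Equiv.ext fun q => ?_)
    by_cases hq : q ∈ Set.range f
    · obtain ⟨v, rfl⟩ := hq
      rw [Perm.mul_apply, Perm.mul_apply, Perm.mul_apply, hBf, haf, haf, hBf, h,
        show ∀ v, f v = f (v.1, v.2) from fun _ => rfl, hwf]
      rfl
    · rw [Perm.mul_apply, Perm.mul_apply, Perm.mul_apply, hBo q hq, hao q hq, hBo q hq, hwo q hq]

/-- At least ten moved points. -/
theorem dist_many (d : H60.AltCover.Data φ z) (hw : w * w = 1) (hy : φ w * φ w = 1)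
    (hs : 10 ≤ (φ w).support.card) : Dist z w := by
  classical
  obtain ⟨f, hf⟩ := exists_pair_emb hy (k := 5) (by omega)
  have hne : ∀ u v, u ≠ v → f u ≠ f v := fun u v h e => h (f.injective e)
  have hnd : [f (0, false), f (0, true), f (1, false), f (1, true)].Nodup := by
    rw [show [f (0, false), f (0, true), f (1, false), f (1, true)] =
      [((0 : Fin 5), false), (0, true), (1, false), (1, true)].map f from rfl]
    exact List.Nodup.map f.injective (by decide)
  set U := swap (f (0, false)) (f (0, true)) * swap (f (1, false)) (f (1, true)) with hU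
  obtain ⟨u, hu⟩ := d.lift (σ := U) (by
    rw [hU, map_mul, Perm.sign_swap (hne _ _ (by decide)), Perm.sign_swap (hne _ _ (by decide))]; decide)
  have hswap : ∀ a b c : Fin 5 × Bool, swap (f a) (f b) (f c) = f (swap a b c) := fun a b c =>
    f.injective.swap_apply a b c
  have hUf : ∀ v, U (f v) = f ((swap (0, false) (0, true) * swap (1, false) (1, true) : Perm (Fin 5 × Bool)) v) :=
    fun v => by rw [hU, Perm.mul_apply, hswap, hswap]; rfl
  have hUo : ∀ q, q ∉ Set.range f → U q = q := fun q hq => by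
    have hn : ∀ v, q ≠ f v := fun v e => hq ⟨v, e.symm⟩
    rw [hU, Perm.mul_apply, swap_apply_of_ne_of_ne (hn _) (hn _), swap_apply_of_ne_of_ne (hn _) (hn _)]
  have hflip : ∀ q, U q = q ∨ U q = φ w q := fun q => by
    by_cases hq : q ∈ Set.range f
    · obtain ⟨⟨i, b⟩, rfl⟩ := hq
      have h : ∀ v : Fin 5 × Bool, (swap (0, false) (0, true) * swap (1, false) (1, true) : Perm (Fin 5 × Bool)) v = v ∨
          (swap (0, false) (0, true) * swap (1, false) (1, true) : Perm (Fin 5 × Bool)) v = (v.1, !v.2) := by decide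
      rw [hf, hUf]
      exact (h (i, b)).imp (congrArg f) (congrArg f)
    · exact Or.inl (hUo q hq)
  have huw : Commute u w := by
    have ht : ∀ v : Fin 5 × Bool, (v.1 = 0 ∨ v.1 = 1) → φ (u⁻¹ * w) (f v) = f v := by
      rintro ⟨i, b⟩ hv
      have h : ∀ v : Fin 5 × Bool, (v.1 = 0 ∨ v.1 = 1) →
          (swap (0, false) (0, true) * swap (1, false) (1, true) : Perm (Fin 5 × Bool)) v = (v.1, !v.2) := by decide
      rw [map_mul, map_inv, hu, Perm.mul_apply, hf]
      apply U.injective
      rw [hUf, h (i, b) hv]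
      exact U.apply_symm_apply _
    have hc := commute_dt d hnd hu (t := u⁻¹ * w) (ht _ (Or.inl rfl)) (ht _ (Or.inl rfl)) (ht _ (Or.inr rfl))
      (ht _ (Or.inr rfl))
    have := (Commute.refl u).mul_right hc.symm
    rwa [mul_inv_cancel_left] at this
  let P : Perm (Fin 5 × Bool) := (finRotate 5).prodCongr (Equiv.refl _)
  set X := Perm.viaEmbeddingHom f P with hX
  have hXf : ∀ v, X (f v) = f (P v) := fun v => Perm.viaEmbedding_apply P f v
  have hXo : ∀ q, q ∉ Set.range f → X q = q := fun q hq => Perm.viaEmbedding_apply_of_notMem P f q hq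
  have hX5 : X ^ 5 = 1 := by
    rw [hX, ← map_pow, show P ^ 5 = 1 from by decide, map_one]
  have hXy : Commute X (φ w) := by
    refine Equiv.ext fun q => ?_
    rw [Perm.mul_apply, Perm.mul_apply]
    by_cases hq : q ∈ Set.range f
    · obtain ⟨⟨i, b⟩, rfl⟩ := hq
      rw [hXf, hf, hXf]
      exact (hf (finRotate 5 i) b).symm
    · have h : φ w q ∉ Set.range f := fun ⟨⟨i, b⟩, e⟩ => hq ⟨(i, !b), by
        rw [← hf, e, inv_apply_self hy]⟩
      rw [hXo q hq, hXo _ h]
  obtain ⟨x, hx, hx5⟩ := exists_odd_lift d (k := 5) (by decide) hX5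
  have hxw : Commute x w :=
    (commute_odd d (k := 5) (by decide) (show Commute (φ w) (φ x) from hx ▸ hXy.symm) (by rw [hx, hX5])).symm
  refine Or.inl ⟨u, x, d.central u, huw, d.central x, hxw, d.dt_sq hnd hu, hx5, ?_, ?_⟩
  · intro g _ hgw _
    apply clause_of_image d
    refine Or.inl (commute_flips hy (hu ▸ hflip) ?_ (huw.map φ) ?_).eq
    · intro q
      rw [map_mul, map_mul, map_inv, hu, Perm.mul_apply, Perm.mul_apply]
      rcases hflip ((φ g)⁻¹ q) with e | e <;> rw [e]
      · exact Or.inl ((φ g).apply_symm_apply q)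
      · refine Or.inr ?_
        rw [← Perm.mul_apply, (hgw.map φ).eq, Perm.mul_apply]
        exact congrArg _ ((φ g).apply_symm_apply q)
    · exact ((hgw.mul_left huw).mul_left hgw.inv_left).map φ
  · intro e
    have h := congrArg (fun r : Perm (Fin n) => r (f (1, false))) (e.map φ).eq
    simp only [Perm.mul_apply, hu, hx, hUf, hXf] at h
    exact absurd (f.injective h) (by decide)

/-- Exactly eight moved points and four fixed ones. -/
theorem dist_eight (d : H60.AltCover.Data φ z) (hw : w * w = 1) (hy : φ w * φ w = 1)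
    (hs : (φ w).support.card = 8) (hn : 12 ≤ n) : Dist z w := by
  classical
  obtain ⟨f, hf⟩ := exists_pair_emb hy (k := 4) (by omega)
  have hrange : ∀ q, q ∈ Set.range f ↔ φ w q ≠ q := by
    have hsub : Finset.univ.map f ⊆ (φ w).support := fun q hq => by
      obtain ⟨⟨i, b⟩, -, rfl⟩ := Finset.mem_map.1 hq
      rw [Perm.mem_support, hf]
      exact fun e => by cases b <;> exact absurd (congrArg Prod.snd (f.injective e)) (by simp)
    have heq := Finset.eq_of_subset_of_card_le hsub (by rw [Finset.card_map, hs]; simp)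
    intro q
    rw [← Perm.mem_support, ← heq]
    simp
  have hwo : ∀ q, q ∉ Set.range f → φ w q = q := fun q hq => by
    by_contra h
    exact hq ((hrange q).2 h)
  obtain ⟨e⟩ : Nonempty (Fin 4 ↪ {q : Fin n // φ w q = q}) := Function.Embedding.nonempty_of_card_le (by
    have h := Fintype.card_subtype_compl (fun q : Fin n => φ w q ≠ q)
    have h' : Fintype.card {q : Fin n // φ w q ≠ q} = 8 := by
      rw [Fintype.card_subtype, ← hs]
      rfl
    simp only [not_not, h', Fintype.card_fin] at h
    rw [Fintype.card_fin, h]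
    omega)
  let g : Fin 4 → Fin n := fun i => (e i : Fin n)
  have hg : ∀ i, φ w (g i) = g i := fun i => (e i).2
  have hgne : ∀ i j, i ≠ j → g i ≠ g j := fun i j h k => h (e.injective (Subtype.ext k))
  have hgr : ∀ i, g i ∉ Set.range f := fun i h => (hrange _).1 h (hg i)
  have hnd : [g 0, g 1, g 3, g 2].Nodup := by
    rw [show [g 0, g 1, g 3, g 2] = [(0 : Fin 4), 1, 3, 2].map g from rfl]
    exact List.Nodup.map (fun i j h => e.injective (Subtype.ext h)) (by decide)
  set A := swap (g 0) (g 1) * swap (g 3) (g 2) with hA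
  obtain ⟨a, ha⟩ := d.lift (σ := A) (by
    rw [hA, map_mul, Perm.sign_swap (hgne _ _ (by decide)), Perm.sign_swap (hgne _ _ (by decide))]; decide)
  have haw : Commute a w := (commute_dt d hnd ha (hg 0) (hg 1) (hg 3) (hg 2)).symm
  set X := swap (g 1) (g 3) * swap (g 3) (g 2) with hX
  have hX3 : X ^ 3 = 1 :=
    Cfsg.Agent.S3335.cube_eq (hgne _ _ (by decide)) (hgne _ _ (by decide)) (hgne _ _ (by decide))
  have hXfix : ∀ q, φ w q ≠ q → X q = q := fun q hq => by
    have hn : ∀ i, q ≠ g i := fun i k => hq (k ▸ hg i)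
    rw [hX, Perm.mul_apply, swap_apply_of_ne_of_ne (hn _) (hn _), swap_apply_of_ne_of_ne (hn _) (hn _)]
  obtain ⟨x, hx, hx3⟩ := exists_odd_lift d (k := 3) (by decide) hX3
  have hcommX : ∀ t : Γ, (∀ q, φ w q = q → φ t q = q) → Commute x t := fun t ht =>
    (commute_odd d (k := 3) (by decide) (show Commute (φ t) (φ x) from
      hx ▸ (Perm.Disjoint.commute fun p => (em (φ w p = p)).imp (ht p) (hXfix p))) (by rw [hx, hX3])).symm
  have hxw : Commute x w := hcommX w fun q hq => hq
  have hconj : φ (x * a * x⁻¹) = swap (g 0) (g 3) * swap (g 1) (g 2) := by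
    have h0 : X (g 0) = g 0 := by
      rw [hX, Perm.mul_apply, swap_apply_of_ne_of_ne (hgne _ _ (by decide)) (hgne _ _ (by decide)),
        swap_apply_of_ne_of_ne (hgne _ _ (by decide)) (hgne _ _ (by decide))]
    have h1 : X (g 1) = g 3 := by
      rw [hX, Perm.mul_apply, swap_apply_of_ne_of_ne (hgne _ _ (by decide)) (hgne _ _ (by decide)),
        swap_apply_left]
    have h3 : X (g 3) = g 2 := by
      rw [hX, Perm.mul_apply, swap_apply_left,
        swap_apply_of_ne_of_ne (hgne _ _ (by decide)) (hgne _ _ (by decide))]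
    have h2 : X (g 2) = g 1 := by
      rw [hX, Perm.mul_apply, swap_apply_right, swap_apply_right]
    rw [map_mul, map_mul, map_inv, hx, ha, hA,
      show X * (swap (g 0) (g 1) * swap (g 3) (g 2)) * X⁻¹ =
        (X * swap (g 0) (g 1) * X⁻¹) * (X * swap (g 3) (g 2) * X⁻¹) by group,
      ← swap_apply_apply, ← swap_apply_apply, h0, h1, h2, h3, swap_comm (g 2) (g 1)]
  have hanti : ⁅a, x * a * x⁻¹⁆ = z := by
    refine d.anti hnd ?_ ?_ ?_ ?_ (sign_phi d a) hconj
    all_goals rw [ha, hA, Perm.mul_apply]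
    · rw [swap_apply_of_ne_of_ne (hgne _ _ (by decide)) (hgne _ _ (by decide)), swap_apply_left]
    · rw [swap_apply_of_ne_of_ne (hgne _ _ (by decide)) (hgne _ _ (by decide)), swap_apply_right]
    · rw [swap_apply_left, swap_apply_of_ne_of_ne (hgne _ _ (by decide)) (hgne _ _ (by decide))]
    · rw [swap_apply_right, swap_apply_of_ne_of_ne (hgne _ _ (by decide)) (hgne _ _ (by decide))]
  obtain ⟨s, hsl⟩ := d.lift (σ := root4.viaFintypeEmbedding f)
    (by rw [Perm.viaFintypeEmbedding_sign, root4_sign])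
  have hsf : ∀ v, φ s (f v) = f (root4 v) := fun v => by rw [hsl, Perm.viaFintypeEmbedding_apply_image]
  have hso : ∀ q, q ∉ Set.range f → φ s q = q := fun q hq => by
    rw [hsl, Perm.viaFintypeEmbedding_apply_notMem_range _ _ hq]
  have hs2 : φ (s * s) = φ w := by
    refine Equiv.ext fun q => ?_
    rw [map_mul, Perm.mul_apply]
    by_cases hq : q ∈ Set.range f
    · obtain ⟨⟨i, b⟩, rfl⟩ := hq
      rw [hsf, hsf, root4_sq, hf]
      rfl
    · rw [hso q hq, hso q hq, hwo q hq]
  have hzw : Commute z w := (d.central w).symm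
  have hsw : Commute s w := by
    have h := (Commute.refl s).mul_right (Commute.refl s)
    rcases d.eq_or hs2 with k | k <;> rw [k] at h
    · exact h
    · have h' := h.mul_right (d.central s : Commute s z)
      rwa [mul_assoc, d.sq, mul_one] at h'
  set C := swap (f (0, false)) (f (2, false)) * swap (f (0, true)) (f (2, true)) with hC
  obtain ⟨c, hc⟩ := d.lift (σ := C) (by
    rw [hC, map_mul, Perm.sign_swap (fun k => absurd (f.injective k) (by decide)),
      Perm.sign_swap (fun k => absurd (f.injective k) (by decide))]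
    decide)
  have hCf : ∀ v, C (f v) = f (swap02 v) := fun v => by
    rw [hC, Perm.mul_apply, f.injective.swap_apply, f.injective.swap_apply]
    refine congrArg f ?_
    revert v
    decide
  have hCo : ∀ q, q ∉ Set.range f → C q = q := fun q hq => by
    have hn : ∀ v, q ≠ f v := fun v k => hq ⟨v, k.symm⟩
    rw [hC, Perm.mul_apply, swap_apply_of_ne_of_ne (hn _) (hn _), swap_apply_of_ne_of_ne (hn _) (hn _)]
  have hCC : C * C = 1 := Equiv.ext fun q => by
    by_cases hq : q ∈ Set.range f
    · obtain ⟨v, rfl⟩ := hq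
      rw [Perm.mul_apply, hCf, hCf]
      refine congrArg f ?_
      revert v
      decide
    · rw [Perm.mul_apply, hCo q hq, hCo q hq]; rfl
  have hwc : ⁅w, c⁆ = z := by
    refine d.anti (p := f (0, false)) (q := f (0, true)) (r := f (2, false)) (s := f (2, true)) ?_
      (hf 0 false) (hf 0 true) (hf 2 false) (hf 2 true) (sign_phi d w) hc
    rw [show [f (0, false), f (0, true), f (2, false), f (2, true)] =
      [((0 : Fin 4), false), (0, true), (2, false), (2, true)].map f from rfl]
    exact List.Nodup.map f.injective (by decide)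
  have hcw : c * w * c⁻¹ = w * z := by
    rw [commutatorElement_def] at hwc
    have h : w⁻¹ = w := inv_eq_of_mul_eq_one_right hw
    calc c * w * c⁻¹ = w⁻¹ * (w * c * w⁻¹ * c⁻¹) * (c * (w * w) * c⁻¹) := by group
      _ = w * z := by rw [hwc, hw, h]; group
  set s' := c * s * c⁻¹ with hs'
  have hs'eq : φ s' = C * φ s * C := by
    rw [hs', map_mul, map_mul, map_inv, hc, inv_eq_of_mul_eq_one_right hCC]
  have hsf' : ∀ v, φ s' (f v) = f (root4' v) := fun v => by
    rw [hs'eq, Perm.mul_apply, Perm.mul_apply, hCf, hsf, hCf, root4_conj]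
  have hso' : ∀ q, q ∉ Set.range f → φ s' q = q := fun q hq => by
    rw [hs'eq, Perm.mul_apply, Perm.mul_apply, hCo q hq, hso q hq, hCo q hq]
  have hsw' : Commute s' w := by
    have h : Commute (c * s * c⁻¹) (c * w * c⁻¹) := hsw.map (MulAut.conj c).toMonoidHom
    rw [hcw] at h
    have h' := h.mul_right (d.central (c * s * c⁻¹) : Commute (c * s * c⁻¹) z)
    rwa [mul_assoc w, d.sq, mul_one] at h'
  have hg' : ∀ t : Γ, (∀ q, q ∉ Set.range f → φ t q = q) → Commute x t := fun t ht =>
    hcommX t fun q hq => ht q fun h => (hrange q).1 h hq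
  have k1 : Clause z w s := clause_root d f hf hwo root4 root4_conj4 hsf hso
  have k2 : Clause z w s' := clause_root d f hf hwo root4' root4'_conj4 hsf' hso'
  have hzs : s' * s' = c * (s * s) * c⁻¹ := by rw [hs']; group
  rcases d.eq_or hs2 with k | k
  · exact Or.inr ⟨a, x, s, s', d.central a, haw, d.central x, hxw, d.central s, hsw, d.central s', hsw', hx3, hanti,
      k, by rw [hzs, k, hcw, d.central w], k1, k2, hg' s hso, hg' s' hso'⟩
  · refine Or.inr ⟨a, x, s', s, d.central a, haw, d.central x, hxw, d.central s', hsw', d.central s, hsw, hx3,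
      hanti, ?_, by rw [k, d.central w], k2, k1, hg' s' hso', hg' s hso⟩
    calc s' * s' = c * (w * z) * c⁻¹ := by rw [hzs, k]
      _ = c * w * c⁻¹ * (c * z * c⁻¹) := by group
      _ = w := by rw [hcw, d.central c, mul_inv_cancel_right, mul_assoc, d.sq, mul_one]

end H37.AltDeg
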