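import Cfsg.Agent.H37.AltDeg.Cover
import Cfsg.Agent.H37.AltDeg.NotDist
import Cfsg.Agent.H37.AltDeg.YesDist
import Cfsg.Agent.H85.BrauerSuzuki

/-!
A simple group with an involution centralizer a non-split double cover of `A_n` has `8 ≤ n ≤ 11`.
-/

set_option autoImplicit false
set_option linter.unusedSectionVars false

namespace H37.AltDeg

open Equiv
open scoped commutatorElement

/-- An involution other than the central one moves at least eight points. -/
theorem eight_le_support {Γ : Type*} [Group Γ] [Finite Γ] {n : ℕ} {φ : Γ →* Perm (Fin n)} {z w : Γ}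
    (d : H60.AltCover.Data φ z) (hw : w * w = 1) (h1 : w ≠ 1) (hz : w ≠ z) :
    (φ w).support.card = 8 ∨ 12 ≤ (φ w).support.card := by
  obtain ⟨hy, hy1⟩ := phi_invol d hw h1 hz
  obtain ⟨k, hk⟩ := four_dvd_support hy (sign_phi d w)
  have h0 : k ≠ 0 := fun e => hy1 (Perm.support_eq_empty_iff.1 (Finset.card_eq_zero.1 (by rw [hk, e, mul_zero])))
  suffices k ≠ 1 by omega
  intro h4
  obtain ⟨f, hf⟩ := exists_pair_emb hy (k := 2) (by omega)
  have hsub : Finset.univ.map f ⊆ (φ w).support := fun q hq => by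
    obtain ⟨⟨i, b⟩, -, rfl⟩ := Finset.mem_map.1 hq
    rw [Perm.mem_support, hf]
    exact fun e => by cases b <;> exact absurd (congrArg Prod.snd (f.injective e)) (by simp)
  have heq := Finset.eq_of_subset_of_card_le hsub (by rw [Finset.card_map, hk, h4]; simp)
  have hnd : [f (0, false), f (0, true), f (1, false), f (1, true)].Nodup := by
    rw [show [f (0, false), f (0, true), f (1, false), f (1, true)] =
      [((0 : Fin 2), false), (0, true), (1, false), (1, true)].map f from rfl]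
    exact List.Nodup.map f.injective (by decide)
  refine d.ne_one ?_
  rw [← d.dt_sq hnd (g := w) ?_, hw]
  refine Equiv.ext fun q => ?_
  by_cases hq : q ∈ (φ w).support
  · rw [← heq] at hq
    obtain ⟨⟨i, b⟩, -, rfl⟩ := Finset.mem_map.1 hq
    rw [hf, Perm.mul_apply, f.injective.swap_apply, f.injective.swap_apply]
    refine congrArg f ?_
    exact (by decide : ∀ (i : Fin 2) (b : Bool), (i, !b) =
      (swap ((0 : Fin 2), false) (0, true)) ((swap ((1 : Fin 2), false) (1, true)) (i, b))) i b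
  · have hn : ∀ v, q ≠ f v := fun v e => hq (hsub (Finset.mem_map.2 ⟨v, Finset.mem_univ v, e.symm⟩))
    rw [Perm.mul_apply, swap_apply_of_ne_of_ne (hn _) (hn _), swap_apply_of_ne_of_ne (hn _) (hn _),
      Perm.notMem_support.1 hq]

/-- An involution of a simple group with the double cover as centralizer has a commuting conjugate. -/
theorem exists_conj {G : Type*} [Group G] [Finite G] [IsSimpleGroup G] {n : ℕ} {z : G} (hz : orderOf z = 2)
    {zc : Subgroup.centralizer ({z} : Set G)} {φ : Subgroup.centralizer ({z} : Set G) →* Perm (Fin n)}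
    (d : H60.AltCover.Data φ zc) : ∃ g : G, Commute z (g * z * g⁻¹) ∧ g * z * g⁻¹ ≠ z := by
  by_contra hall
  have hiso : Cfsg.IsIsolatedInvolution z := ⟨hz, fun g hg => by_contra fun h => hall ⟨g, hg, h⟩⟩
  haveI := H1.pPrimeCore_normal' 2 G
  have hbot : Cfsg.pPrimeCore 2 G = ⊥ := by
    rcases Subgroup.Normal.eq_bot_or_eq_top (H := Cfsg.pPrimeCore 2 G) inferInstance with h | h
    · exact h
    · exfalso
      have hc := H1.card_pPrimeCore_coprime 2 G
      rw [h, Subgroup.card_top] at hc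
      exact Nat.prime_two.coprime_iff_not_dvd.1 (Nat.coprime_comm.1 hc) (hz ▸ orderOf_dvd_natCard z)
  have hcen : z ∈ Subgroup.center G := Subgroup.mem_center_iff.2 fun g => by
    have h := H85.zStar hiso g
    rw [hbot, Subgroup.mem_bot, mul_inv_eq_one, mul_inv_eq_iff_eq_mul] at h
    exact h.symm
  have htop : Subgroup.center G = ⊤ := (Subgroup.Normal.eq_bot_or_eq_top inferInstance).resolve_left fun h => by
    rw [h, Subgroup.mem_bot] at hcen
    rw [hcen, orderOf_one] at hz
    exact absurd hz (by norm_num)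
  have hcomm : commutator (Subgroup.centralizer ({z} : Set G)) = ⊥ := by
    rw [commutator_def, Subgroup.commutator_eq_bot_iff_le_centralizer]
    intro a _
    rw [Subgroup.mem_centralizer_iff]
    intro b _
    have ha : (a : G) ∈ Subgroup.center G := htop.symm ▸ Subgroup.mem_top _
    exact Subtype.ext (Subgroup.mem_center_iff.1 ha b)
  have : zc ∈ (⊥ : Subgroup (Subgroup.centralizer ({z} : Set G))) := hcomm ▸ d.perfect ▸ Subgroup.mem_top zc
  exact d.ne_one (Subgroup.mem_bot.1 this)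

/-- The degree of a double cover occurring as an involution centralizer in a simple group. -/
theorem range {G : Type*} [Group G] [Finite G] [IsSimpleGroup G] (n : ℕ) (hn : 5 ≤ n) (z : G) (hz : orderOf z = 2)
    (hcov : Cfsg.IsNonsplitDoubleCover (Subgroup.centralizer ({z} : Set G)) (alternatingGroup (Fin n))) :
    8 ≤ n ∧ n ≤ 11 := by
  obtain ⟨φ, d⟩ := exists_data n hn z hz hcov
  obtain ⟨g, hg, hgz⟩ := exists_conj hz d
  have hmem : ∀ x : G, x ∈ Subgroup.centralizer ({z} : Set G) ↔ Commute x z := fun x => Subgroup.mem_centralizer_singleton_iff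
  have hzz : z * z = 1 := by rw [← pow_two, ← hz, pow_orderOf_eq_one]
  have hz1 : z ≠ 1 := fun e => by rw [e, orderOf_one] at hz; exact absurd hz (by norm_num)
  set zc : ↥(Subgroup.centralizer ({z} : Set G)) := ⟨z, Subgroup.mem_centralizer_singleton_iff.2 rfl⟩ with hzc
  have hfacts : ∀ k : G, ∀ hk : k * z * k⁻¹ ∈ Subgroup.centralizer ({z} : Set G), k * z * k⁻¹ ≠ z →
      (⟨k * z * k⁻¹, hk⟩ : ↥(Subgroup.centralizer ({z} : Set G))) * ⟨k * z * k⁻¹, hk⟩ = 1 ∧ (⟨k * z * k⁻¹, hk⟩ : ↥(Subgroup.centralizer ({z} : Set G))) ≠ 1 ∧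
        (⟨k * z * k⁻¹, hk⟩ : ↥(Subgroup.centralizer ({z} : Set G))) ≠ zc := by
    intro k hk hne
    refine ⟨Subtype.ext ?_, fun e => ?_, fun e => hne (congrArg Subtype.val e)⟩
    · show k * z * k⁻¹ * (k * z * k⁻¹) = 1
      rw [show k * z * k⁻¹ * (k * z * k⁻¹) = k * (z * z) * k⁻¹ by group, hzz, mul_one, mul_inv_cancel]
    · exact hz1 (conj_eq_one_iff.1 (congrArg Subtype.val e))
  have hgC : g * z * g⁻¹ ∈ Subgroup.centralizer ({z} : Set G) := (hmem _).2 hg.symm
  obtain ⟨w2, w1, wz⟩ := hfacts g hgC hgz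
  set w : ↥(Subgroup.centralizer ({z} : Set G)) := ⟨g * z * g⁻¹, hgC⟩ with hw
  have hsupp : (φ w).support.card = 8 ∨ 12 ≤ (φ w).support.card := eight_le_support d w2 w1 wz
  have hle : (φ w).support.card ≤ n := (Finset.card_le_univ _).trans (by simp)
  refine ⟨by rcases hsupp with h | h <;> omega, ?_⟩
  by_contra hbig
  have hg' : g⁻¹ * z * g⁻¹⁻¹ ∈ Subgroup.centralizer ({z} : Set G) := (hmem _).2 (by
    have h : Commute (g⁻¹ * z * g⁻¹⁻¹) (g⁻¹ * (g * z * g⁻¹) * g⁻¹⁻¹) :=
      hg.map (MulAut.conj g⁻¹).toMonoidHom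
    rwa [show g⁻¹ * (g * z * g⁻¹) * g⁻¹⁻¹ = z by group] at h)
  have hne' : g⁻¹ * z * g⁻¹⁻¹ ≠ z := fun e => hgz (by
    conv_lhs => rw [← e]
    group)
  obtain ⟨v2, v1, vz⟩ := hfacts g⁻¹ hg' hne'
  set v : ↥(Subgroup.centralizer ({z} : Set G)) := ⟨g⁻¹ * z * g⁻¹⁻¹, hg'⟩ with hv
  obtain ⟨hvy, -⟩ := phi_invol d v2 v1 vz
  have hyes : Dist zc v := by
    rcases eight_le_support d v2 v1 vz with h | h
    · exact dist_eight d v2 hvy h (by omega)
    · exact dist_many d v2 hvy (by omega)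
  have hG : Dist z (g⁻¹ * z * g⁻¹⁻¹) :=
    (dist_coe (e := zc) (e1 := v) fun x hx _ => (hmem x).2 hx).2 hyes
  have hG' : Dist (w : G) (zc : G) := by
    have h : Dist (g * z * g⁻¹) (g * (g⁻¹ * z * g⁻¹⁻¹) * g⁻¹) := hG.map (MulAut.conj g)
    rwa [show g * (g⁻¹ * z * g⁻¹⁻¹) * g⁻¹ = z by group] at h
  obtain ⟨hwy, hwy1⟩ := phi_invol d w2 w1 wz
  exact not_dist d hwy hwy1 (hsupp.imp_left (fun h : (φ w).support.card = 8 => h.le))
    ((dist_coe (e := w) (e1 := zc) fun x _ hx => (hmem x).2 hx).1 hG')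

end H37.AltDeg
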